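import Cfsg.Agent.H748.EB.CharTwo
import Cfsg.Agent.H694.EB.Wrap
import Cfsg.Agent.H274.EB.U1

/-!
# TEAM EB (S4522, S4515): `G₂(2^a)` and `³D₄(2^a)`

The two classes of maximal parabolic subgroups: rank 4 (even) and 3 mixed double cosets (odd).
-/

set_option autoImplicit false

namespace Cfsg.Agent.H748.EB

open Cfsg Cfsg.Agent.H694 Cfsg.Agent.H694.EB Cfsg.Agent.H610.EB Cfsg.Agent.H684.EB
open Cfsg.Agent.ChevalleyStructure.CoxeterGeom Cfsg.Agent.Tits.Core Cfsg.Agent.Tits.OppRes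
open Cfsg.Agent.Omega.ML.Ex.Typ

universe u

/-- the Cartan matrix -/
def AG (i j : Fin 2) : ℤ := ![![2, -1], ![-3, 2]] i j

set_option backward.isDefEq.respectTransparency false in
theorem isCartan_AG : IsCartan CoxeterMatrix.G₂ AG := by constructor <;> decide +kernel

/-- the orbit -/
def phG (y : Fin 6) (j : Fin 2) : ℤ := ![![0, 1], ![3, -1], ![-3, 2], ![3, -2], ![-3, 1], ![0, -1]] y j

/-- the reflections -/
def sgG (i : Fin 2) (y : Fin 6) : Fin 6 := ![![0, 2, 1, 4, 3, 5], ![1, 0, 3, 2, 5, 4]] i y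

theorem phG_injective : Function.Injective phG := by
  have h : ∀ x y : Fin 6, (phG x 0 = phG y 0 ∧ phG x 1 = phG y 1) → x = y := by decide
  intro x y hxy
  exact h x y ⟨by rw [hxy], by rw [hxy]⟩

theorem counts_G2 {W : Type*} [Group W] [Finite W] (cs : CoxeterSystem CoxeterMatrix.G₂ W) :
    Nat.card (DoubleCoset.Quotient (WJ cs {0} : Set W) (WJ cs {0} : Set W)) = 4 ∧
      Nat.card (DoubleCoset.Quotient (WJ cs {0} : Set W) (WJ cs {1} : Set W)) = 3 := by
  have hy0 : phG 0 = (fun i : Fin 2 => if i = 0 then (0 : ℤ) else 1) := by decide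
  obtain ⟨-, h2⟩ := count cs isCartan_AG (c := fun i : Fin 2 => if i = 0 then (0 : ℤ) else 1) (by decide)
    phG phG_injective 0 hy0 sgG (by decide) (fun y => (y : ℕ)) (by decide)
  have h3 : {i : Fin 2 | (if i = 0 then (0 : ℤ) else 1) = 0} = {0} := by
    ext i
    show (if i = 0 then (0 : ℤ) else 1) = 0 ↔ i = 0
    revert i
    decide
  rw [h3] at h2
  refine ⟨(h2 _).trans ?_, (card_double_comm _ _).trans ((h2 _).trans ?_)⟩
  · have h4 : ∀ y : Fin 6, (∀ i ∈ ({0} : Set (Fin 2)), 0 ≤ phG y i) ↔ 0 ≤ phG y 0 := fun y => by simp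
    rw [Nat.card_congr (Equiv.subtypeEquivRight h4), Nat.card_eq_fintype_card]
    decide
  · have h4 : ∀ y : Fin 6, (∀ i ∈ ({1} : Set (Fin 2)), 0 ≤ phG y i) ↔ 0 ≤ phG y 1 := fun y => by simp
    rw [Nat.card_congr (Equiv.subtypeEquivRight h4), Nat.card_eq_fintype_card]
    decide

/-- type `G₂`, characteristic two -/
theorem b2Data_G2 {K : Type u} [Group K] [Finite K] (hK : HasSplitT 2 CoxeterMatrix.G₂ K) (hdz : DZ K) :
    B2Data K := by
  refine b2Data_of_splitT_two hK hdz {0} {1} ⟨0, rfl⟩ ?_ ?_ ?_ ?_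
  · intro h
    have : (0 : Fin 2) ∈ ({1} : Set (Fin 2)) := by
      rw [← h]
      rfl
    exact absurd (show (0 : Fin 2) = 1 from this) (by decide)
  · intro σ _
    rw [Set.image_singleton, Set.image_singleton]
    have h3 : ∀ x y : Fin 2, x ≠ y → (x = 0 ∧ y = 1) ∨ (x = 1 ∧ y = 0) := by decide
    rcases h3 (σ 0) (σ 1) (fun h => absurd (σ.injective h) (by decide)) with ⟨h4, h5⟩ | ⟨h4, h5⟩
    · exact Or.inl ⟨by rw [h4], by rw [h5]⟩
    · exact Or.inr ⟨by rw [h4], by rw [h5]⟩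
  · intro W _ _ cs
    rw [(counts_G2 cs).1]
    decide
  · intro W _ _ cs
    rw [(counts_G2 cs).2]
    decide

/-- **The conclusion for the simple groups with a root group datum of type `G₂` in characteristic two.** -/
theorem evenJ_of_rgdT {S : Type u} [Group S] [Finite S] [IsSimpleGroup S]
    (hS : HasRGDT 2 CoxeterMatrix.G₂ S) (hF : KFacts.RgdFilt.HasFilt 2 S) : EvenJ S := by
  refine evenJ_of_b2Data' fun T _ _ ⟨f⟩ => ?_
  have hnt : Nontrivial T := f.symm.toEquiv.nontrivial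
  have hT : IsSimpleGroup T := IsSimpleGroup.isSimpleGroup_of_surjective f.toMonoidHom f.surjective
  exact b2Data_G2 ((hS.of_equiv f).hasSplitT Nat.prime_two (by decide)) (H274.EB.dz_of_hasFilt (hF.of_equiv f))

/-- `G₂(2^a)` -/
theorem evenJ_G2 {S : Type u} [Group S] [Finite S] [IsSimpleGroup S] {F : Type} [Field F] [Finite F]
    [CharP F 2] (e : S ≃* ↥(Lie.chevG2.group F)) : EvenJ S :=
  evenJ_of_rgdT ((typ_group (by simp [Nodes.RGDChev.IsType, Nodes.RGDChev.typeList]) F 2).of_equiv e.symm)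
    ((KFacts.RgdFiltChev.hasFilt_G2 F 2).of_equiv e.symm)

/-- `³D₄(2^a)` -/
theorem evenJ_3D4 {S : Type u} [Group S] [Finite S] [IsSimpleGroup S] {K : Type} [Field K] [Fintype K]
    [CharP K 2] {q : ℕ} (hq : IsPrimePow q) (hK : Fintype.card K = q ^ 3)
    (e : S ≃* ↥(Lie.twistedD4 K q)) : EvenJ S :=
  evenJ_of_rgdT ((typ_twD4 hq hK 2).of_equiv e.symm)
    (KFacts.RgdFiltTwAll.hasFilt_of_twisted ⟨K, _, _, inferInstance, q, hq, Or.inr ⟨hK, ⟨e⟩⟩⟩)

end Cfsg.Agent.H748.EB
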