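import Cfsg.Agent.H694.EB.Data
import Cfsg.Agent.H694.EB.Two
import Cfsg.Agent.H686.EB.DefZero
import Cfsg.Agent.H979.SplitAut

/-!
# TEAM EB (S4522, S4515): criterion (P) in characteristic two

For a split (B, N)-pair of characteristic 2 such that every character outside the principal 2-block has defect
zero, the constituents of the permutation character on the cosets of `P_J`, `J ≠ ∅`, lie in the principal block.

* `exists_fix`: every coset of `P_J` is fixed by a nontrivial element of `U`;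
* `bData_of_splitT_two`, `b2Data_of_splitT_two`: characteristic two versions of `bData_of_splitT`,
  `b2Data_of_splitT`.
-/

set_option autoImplicit false
set_option linter.unusedSectionVars false

namespace Cfsg.Agent.H748.EB

open Cfsg Cfsg.Agent.H694 Cfsg.Agent.H694.EB Cfsg.Agent.H610.EB
open Cfsg.Agent.LieExceptional.BNPairCore Cfsg.Agent.Tits.Core Cfsg.Agent.Tits.Core.Bldg
  Cfsg.Agent.Tits.OfBN Cfsg.Agent.Schreier.BNSch Cfsg.Agent.Tits.OppRes Cfsg.Agent.FixBN
  Cfsg.Agent.FixBN.TwOfBN Cfsg.Agent.OddHalf.Table.AutBldg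
open Cfsg.Agent.Omega.ML.Ex.Typ (HasSplitT HasRGDT)

universe u

section

variable {K : Type u} [Group K] [Finite K] {P : Cfsg.BNPair K}
variable [hN : ((P.B ⊓ P.N).subgroupOf P.N).Normal]
variable {I : Type*} [Finite I] {M : CoxeterMatrix I} (e : I ≃ P.S) (cs : CoxeterSystem M (WP P))
  (hcs : ∀ i, cs.simple i = QuotientGroup.mk (⟨(e i : K), P.subset (e i).2⟩ : P.N))

omit [Finite K] [Finite I] in
theorem mem_WJ_singleton {j : I} {w : WP P} (hw : w ∈ WJ cs {j}) : w = 1 ∨ w = cs.simple j := by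
  have h1 : w ∈ Subgroup.closure ({cs.simple j} : Set (WP P)) := by
    have h2 : WJ cs {j} = Subgroup.closure ({cs.simple j} : Set (WP P)) := by
      unfold WJ
      rw [Set.image_singleton]
    rwa [h2] at hw
  rw [Subgroup.mem_closure_singleton] at h1
  obtain ⟨n, rfl⟩ := h1
  rcases Int.even_or_odd' n with ⟨m, rfl | rfl⟩
  · left
    rw [zpow_mul, zpow_two, cs.simple_mul_simple_self, one_zpow]
  · right
    rw [zpow_add, zpow_mul, zpow_two, cs.simple_mul_simple_self, one_zpow, one_mul, zpow_one]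

include hcs

/-- Every coset of `P_J`, `J` nonempty, is fixed by a nontrivial element of `U`. -/
theorem exists_fix {p : ℕ} [Fact p.Prime] {U : Subgroup K} (S : Split P p U) {J : Set I}
    (hJ : J.Nonempty) (x : K ⧸ PJ P e J) : ∃ u ∈ U, u ≠ 1 ∧ u • x = x := by
  classical
  have hC : Cox cs := inferInstance
  obtain ⟨g, rfl⟩ := QuotientGroup.mk_surjective x
  obtain ⟨j, hj⟩ := hJ
  obtain ⟨V, hV⟩ := S.node (e j : K) (e j).2
  obtain ⟨v, hvU, hvV⟩ := hV.ne
  have hvs : (e j : K)⁻¹ * v * (e j : K) ∉ P.B := fun h => hvV (hV.stab v hvU h)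
  have hsB : (e j : K) ∉ P.B := not_mem_B P (e j).2
  have hs1 : (e j : K) ∈ PJ P e {j} := by
    refine (le_sup_right : Subgroup.closure _ ≤ P.parabolic _) (Subgroup.subset_closure ?_)
    exact ⟨j, rfl, rfl⟩
  have hvB : v ∈ P.B := S.le hvU
  have hv1 : v ∈ PJ P e {j} := B_le_PJ e {j} hvB
  have hle : PJ P e {j} ≤ PJ P e J := by
    intro y hy
    rw [mem_PJ e cs hcs] at hy ⊢
    rcases mem_WJ_singleton cs hy with h | h
    · rw [h]; exact one_mem _
    · rw [h]; exact simple_mem_WJ hj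
  -- two different chambers of the panel at the same distance
  obtain ⟨a, ha, b, hb, hab, hw⟩ : ∃ a ∈ PJ P e {j}, ∃ b ∈ PJ P e {j}, a⁻¹ * b ∉ P.B ∧
      wt P (g * a) = wt P (g * b) := by
    have key : ∀ h ∈ PJ P e {j}, wt P (g * h) = wt P g ∨ wt P (g * h) = wt P g * cs.simple j := by
      intro h hh
      rcases mem_WJ_singleton cs (wt_mul_mem e cs hcs (g := g) hh) with h1 | h1
      · left
        exact (inv_mul_eq_one.1 h1).symm
      · right
        exact inv_mul_eq_iff_eq_mul.1 h1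
    have k1 := key 1 (one_mem _)
    have k2 := key _ hs1
    have k3 := key _ (mul_mem hv1 hs1)
    have n12 : (1 : K)⁻¹ * (e j : K) ∉ P.B := by rwa [inv_one, one_mul]
    have n13 : (1 : K)⁻¹ * (v * (e j : K)) ∉ P.B := by
      rw [inv_one, one_mul]
      intro h
      apply hsB
      have := mul_mem (inv_mem hvB) h
      rwa [inv_mul_cancel_left] at this
    have n23 : (e j : K)⁻¹ * (v * (e j : K)) ∉ P.B := by
      rwa [← mul_assoc]
    rcases k1 with k1 | k1 <;> rcases k2 with k2 | k2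
    · exact ⟨1, one_mem _, _, hs1, n12, k1.trans k2.symm⟩
    · rcases k3 with k3 | k3
      · exact ⟨1, one_mem _, _, mul_mem hv1 hs1, n13, k1.trans k3.symm⟩
      · exact ⟨_, hs1, _, mul_mem hv1 hs1, n23, k2.trans k3.symm⟩
    · rcases k3 with k3 | k3
      · exact ⟨_, hs1, _, mul_mem hv1 hs1, n23, k2.trans k3.symm⟩
      · exact ⟨1, one_mem _, _, mul_mem hv1 hs1, n13, k1.trans k3.symm⟩
    · exact ⟨1, one_mem _, _, hs1, n12, k1.trans k2.symm⟩
  obtain ⟨u, hu, h4⟩ := OfBN.trans S (x := (QuotientGroup.mk 1 : K ⧸ P.B))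
    (y := QuotientGroup.mk (g * a)) (z := QuotientGroup.mk (g * b)) (by
      rw [dist_mk, dist_mk, inv_one, one_mul, one_mul, hw])
  have hu' : u ∈ U := by
    have := (OfBN.mem_UU S).1 hu
    simpa using this
  have h5 : (u * (g * a))⁻¹ * (g * b) ∈ P.B := QuotientGroup.eq.1 h4
  refine ⟨u, hu', ?_, ?_⟩
  · rintro rfl
    apply hab
    have h6 : a⁻¹ * b = (1 * (g * a))⁻¹ * (g * b) := by group
    rw [h6]
    exact h5
  · show (QuotientGroup.mk (u * g) : K ⧸ PJ P e J) = QuotientGroup.mk g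
    rw [QuotientGroup.eq]
    have h6 : (u * g)⁻¹ * g = a * ((u * (g * a))⁻¹ * (g * b)) * b⁻¹ := by group
    rw [h6]
    exact mul_mem (mul_mem (hle ha) (B_le_PJ e J h5)) (inv_mem (hle hb))

/-- The constituents of the permutation character on the cosets of `P_J` are in the principal block. -/
theorem inB0_of_dz {U : Subgroup K} (S : Split P 2 U) {J : Set I} (hJ : J.Nonempty) (hdz : DZ K)
    [Fintype K] : InB0 (cls (PJ P e J)) := by
  classical
  have : Fact (Nat.Prime 2) := ⟨Nat.prime_two⟩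
  have : Fintype (K ⧸ PJ P e J) := Fintype.ofFinite _
  intro m hm φ hφ
  by_contra hn
  obtain ⟨-, h2⟩ := hdz m hm φ hn
  apply hφ
  have h3 := H686.EB.DefZero.classInner_eq_zero_of_defectZero hm φ h2 (X := K ⧸ PJ P e J) U S.isP
    (exists_fix e cs hcs S hJ)
  have h4 : permS (cls (PJ P e J)) = permC K (K ⧸ PJ P e J) := by
    funext s
    rw [permS_cls (normalizer_PJ e J)]
    rfl
  rw [h4, mu, h3]
  simp

omit hcs in
theorem odd_index {U : Subgroup K} (S : Split P 2 U) (J : Set I) : Odd (PJ P e J).index := by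
  have : Fact (Nat.Prime 2) := ⟨Nat.prime_two⟩
  obtain ⟨Q, hQ⟩ := S.isP.exists_le_sylow
  have h1 : U = Q := H979.SplitAut.eq_of_le S Q.isPGroup' hQ
  have h2 : ¬ 2 ∣ U.index := by
    rw [h1]
    exact Q.not_dvd_index' Subgroup.index_ne_zero_of_finite
  have h3 : (PJ P e J).index ∣ U.index := Subgroup.index_dvd_of_le (S.le.trans (B_le_PJ e J))
  rw [← Nat.not_even_iff_odd, even_iff_two_dvd]
  exact fun h => h2 (h.trans h3)

end

/-- **Characteristic two**, one class of parabolic subgroups. -/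
theorem bData_of_splitT_two {I : Type*} [Finite I] {M : CoxeterMatrix I} {K : Type u} [Group K]
    [Finite K] (hK : HasSplitT 2 M K) (hdz : DZ K) (J : Set I) (hJ0 : J.Nonempty)
    (hJ : ∀ σ : I ≃ I, (∀ i j, M (σ i) (σ j) = M i j) → σ '' J = J)
    (heven : ∀ (W : Type u) [Group W] [Finite W] (cs : CoxeterSystem M W),
      Even (Nat.card (DoubleCoset.Quotient (WJ cs J : Set W) (WJ cs J : Set W)))) : BData K := by
  obtain ⟨P, U, e, S, hN, cs, hcs⟩ := hK
  have : Fact (Nat.Prime 2) := ⟨Nat.prime_two⟩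
  refine ⟨cls (PJ P e J), ?_, ?_, ?_⟩
  · intro α
    obtain ⟨σ, hσ, h⟩ := exists_type_perm e cs hcs S α
    obtain ⟨g, hg⟩ := h J
    rw [hJ σ hσ] at hg
    rintro _ ⟨t, rfl⟩
    refine ⟨α t * g, ?_⟩
    rw [← map_conj_conj, ← hg, Subgroup.map_map, Subgroup.map_map]
    congr 1
    ext x
    simp
  · rw [card_cls (normalizer_PJ e J), card_pairRel (normalizer_PJ e J) (normalizer_PJ e J),
      card_double e cs hcs]
    exact (odd_index e S J).add_even (heven (WP P) cs)
  · intro _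
    exact inB0_of_dz e cs hcs S hJ0 hdz

/-- **Characteristic two**, two classes of parabolic subgroups. -/
theorem b2Data_of_splitT_two {I : Type*} [Finite I] {M : CoxeterMatrix I} {K : Type u} [Group K]
    [Finite K] (hK : HasSplitT 2 M K) (hdz : DZ K) (J L : Set I) (hJ0 : J.Nonempty) (hJL : J ≠ L)
    (hJ : ∀ σ : I ≃ I, (∀ i j, M (σ i) (σ j) = M i j) →
      (σ '' J = J ∧ σ '' L = L) ∨ (σ '' J = L ∧ σ '' L = J))
    (heven : ∀ (W : Type u) [Group W] [Finite W] (cs : CoxeterSystem M W),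
      Even (Nat.card (DoubleCoset.Quotient (WJ cs J : Set W) (WJ cs J : Set W))))
    (hodd' : ∀ (W : Type u) [Group W] [Finite W] (cs : CoxeterSystem M W),
      Odd (Nat.card (DoubleCoset.Quotient (WJ cs J : Set W) (WJ cs L : Set W)))) :
    B2Data K := by
  obtain ⟨P, U, e, S, hN, cs, hcs⟩ := hK
  have : Fact (Nat.Prime 2) := ⟨Nat.prime_two⟩
  have hmap : ∀ (α : K ≃* K) (A B : Subgroup K),
      (∃ g : K, A.map α.toMonoidHom = B.map (MulAut.conj g).toMonoidHom) →
      ∀ H ∈ cls A, H.map α.toMonoidHom ∈ cls B := by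
    rintro α A B ⟨g, hg⟩ _ ⟨t, rfl⟩
    refine ⟨α t * g, ?_⟩
    rw [← map_conj_conj, ← hg, Subgroup.map_map, Subgroup.map_map]
    congr 1
    ext x
    simp
  refine ⟨cls (PJ P e J), cls (PJ P e L), ?_, ⟨_, 1, rfl⟩, fun g H hH => conj_mem_cls hH g,
    ?_, ?_, ?_, ?_⟩
  · rw [Set.disjoint_left]
    rintro H ⟨g, rfl⟩ ⟨t, ht⟩
    have h1 : (PJ P e J).map (MulAut.conj (t⁻¹ * g)).toMonoidHom = PJ P e L := by
      rw [← map_conj_conj, ← ht, map_conj_conj, inv_mul_cancel, map_conj_one]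
    have h2 := Cfsg.Agent.S0313.result P (PJ_sub e J) (PJ_sub e L) _ h1
    have h3 := Cfsg.Agent.S0314.result P (PJ_sub e J) (PJ_sub e L) h2
    have hinj : Function.Injective (fun i => (e i : K)) := fun i j h =>
      e.injective (Subtype.ext h)
    exact hJL (hinj.image_injective h3)
  · intro α
    obtain ⟨σ, hσ, h⟩ := exists_type_perm e cs hcs S α
    obtain ⟨g, hg⟩ := h J
    obtain ⟨t, ht⟩ := h L
    rcases hJ σ hσ with ⟨h1, h2⟩ | ⟨h1, h2⟩
    · rw [h1] at hg
      rw [h2] at ht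
      exact Or.inl ⟨hmap α _ _ ⟨g, hg⟩, hmap α _ _ ⟨t, ht⟩⟩
    · rw [h1] at hg
      rw [h2] at ht
      exact Or.inr ⟨hmap α _ _ ⟨g, hg⟩, hmap α _ _ ⟨t, ht⟩⟩
  · rw [card_cls (normalizer_PJ e J), card_pairRel (normalizer_PJ e J) (normalizer_PJ e J),
      card_double e cs hcs]
    exact (odd_index e S J).add_even (heven (WP P) cs)
  · rw [card_pairRel (normalizer_PJ e J) (normalizer_PJ e J),
      card_pairRel (normalizer_PJ e J) (normalizer_PJ e L), card_double e cs hcs,
      card_double e cs hcs]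
    exact (heven (WP P) cs).add_odd (hodd' (WP P) cs)
  · intro _
    exact inB0_of_dz e cs hcs S hJ0 hdz

end Cfsg.Agent.H748.EB
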